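import Groth.Agent.KRRLib.PnBC.Twist
import Groth.Agent.Pn90.Pic
import Groth.Agent.GeomField.GlobalFunctions
import Groth.Agent.PicfLib.Seesaw.Fibre

/-! Invertible modules on the fibres of projective space over a scheme. -/

set_option autoImplicit false
set_option linter.style.haveILetI false
set_option backward.isDefEq.respectTransparency false
set_option backward.isDefEq.respectTransparency.types false

universe u

open CategoryTheory CategoryTheory.Limits AlgebraicGeometry TopologicalSpace Opposite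

noncomputable section

namespace Groth.Agent.PicfLib.PnPic

open Groth.Agent Groth.Agent.H23.PicMul

section Field

variable (k : Type u) [Field k] (r : ℕ)

theorem cl_O_zero : PicF.cl (Pn90.O k r 0) = 1 := cl_eq_iff.2 Pn90.O_zero

/-- The twists are pairwise different. -/
theorem O_injective (hr : 1 ≤ r) {a b : ℤ} (h : PicF.cl (Pn90.O k r a) = PicF.cl (Pn90.O k r b)) : a = b := by
  have key : ∀ a b : ℤ, PicF.cl (Pn90.O k r a) = PicF.cl (Pn90.O k r b) → ¬ a < b := fun a b h hab => by
    obtain ⟨e₁⟩ := Pn90.O_add' (k := k) (n := r) (show a + -b = a - b by ring)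
    obtain ⟨e₂⟩ := Pn90.O_add' (k := k) (n := r) (show b + -b = 0 by ring)
    have hc : PicF.cl (Pn90.O k r (a - b)) = PicF.cl (Pn90.O k r 0) := by
      rw [← cl_eq_iff.2 ⟨e₁⟩, ← cl_eq_iff.2 ⟨e₂⟩, cl_tensor, cl_tensor, h]
    obtain ⟨e⟩ := cl_eq_iff.1 hc
    haveI := Pn90.subsingleton_H0_O (k := k) (n := r) hr (show a - b < 0 by omega)
    haveI := Pn90.nontrivial_H0_O (k := k) (n := r) (le_refl (0 : ℤ))
    exact not_subsingleton (Coh.HH (Pn90.P k r) (Pn90.O k r 0) 0)
      (Equiv.subsingleton (Seesaw.secEquiv (Pn90.O k r 0) |>.toEquiv.trans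
        (((ConcreteCategory.bijective_of_isIso (e.inv.app ⊤)) |> Equiv.ofBijective _).trans
          (Seesaw.secEquiv (Pn90.O k r (a - b))).symm.toEquiv)))
  exact le_antisymm (not_lt.1 (key b a h.symm)) (not_lt.1 (key a b h))

/-- Global functions are constants. -/
theorem bijective_appTop : Function.Bijective (CohB1.ProjSpace.toSpec r k).appTop := by
  let P := CohB1.ProjSpace r k
  letI : P.Over (Spec (CommRingCat.of k)) := ⟨CohB1.ProjSpace.toSpec r k⟩
  haveI : IsIntegral P := Pn90.isIntegral k r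
  letI := GeomField.globalAlgebra k P
  have h1 : Module.finrank k Γ(P, ⊤) = 1 := by
    rw [← GeomField.finrank_HH_zero k P]
    obtain ⟨e⟩ := Pn90.O_zero (k := k) (n := r)
    rw [← (CurveCohLib.hhEquiv (k := k) e 0).finrank_eq]
    obtain ⟨φ⟩ := Groth.Agent.S0843.result k r 0
    refine φ.finrank_eq.trans ?_
    rw [MvPolynomial.homogeneousSubmodule_zero, Submodule.one_eq_span]
    exact finrank_span_singleton one_ne_zero
  haveI : Nontrivial Γ(P, ⊤) := Module.nontrivial_of_finrank_pos (R := k) (by omega)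
  have hb : Function.Bijective (algebraMap k Γ(P, ⊤)) := by
    refine ⟨RingHom.injective _, fun z => ?_⟩
    obtain ⟨c, hc⟩ := exists_smul_eq_of_finrank_eq_one h1 (one_ne_zero (α := Γ(P, ⊤))) z
    exact ⟨c, by rw [← hc, Algebra.smul_def, mul_one]⟩
  have h2 := hb.comp (ConcreteCategory.bijective_of_isIso (Scheme.ΓSpecIso (CommRingCat.of k)).hom)
  convert h2 using 1
  funext z
  show _ = (CohB1.ProjSpace.toSpec r k).appTop ((Scheme.ΓSpecIso (CommRingCat.of k)).inv _)
  exact (congrArg _ ((Scheme.ΓSpecIso (CommRingCat.of k)).hom_inv_id_apply z)).symm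

/-- On a point every invertible module is trivial. -/
theorem cl_eq_one_zero {L : (Pn90.P k 0).Modules} (hL : PicF.IsInvertible L) : PicF.cl L = 1 := by
  obtain ⟨d, ⟨e⟩⟩ := Pn90.exists_iso_O hL
  rw [cl_eq_iff.2 ⟨e⟩]
  have hf := PnCoh.Chow.isFrame_twF (KRRLib.PnBC.X_mem_one 0 k 0) d
  haveI : Subsingleton (Fin (0 + 1)) := inferInstanceAs (Subsingleton (Fin 1))
  have htop : Proj.basicOpen (CohB1.polyGrading 0 k) (MvPolynomial.X (0 : Fin 1)) = ⊤ := by
    refine top_le_iff.1 ((KRRLib.PnBC.iSup_basicOpen 0 k).ge.trans (iSup_le fun i => ?_))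
    rw [Subsingleton.elim i.down (0 : Fin 1)]
  exact cl_eq_iff.2 (H23.TrivBasic.triv_of_frame (hf.res htop.ge))

end Field

variable (r : ℕ) (Y : Scheme.{u})

/-- Projective space over a scheme. -/
abbrev π : CohB1.ProjSpaceOver r Y ⟶ Y := CohB1.ProjSpaceOver.toBase r Y

/-- The fibres are projective spaces, compatibly with the twists. -/
theorem exists_fibre (y : Y) :
    ∃ e : Pn90.P (Y.residueField y) r ≅ (π r Y).fiber y,
      e.hom ≫ (π r Y).fiberToSpecResidueField y = CohB1.ProjSpace.toSpec r (Y.residueField y) ∧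
      ∀ d : ℤ, PicF.pullCl e.hom (PicF.pullCl ((π r Y).fiberι y) (PicF.cl (Twist.twistOver r Y d))) =
        PicF.cl (Pn90.O (Y.residueField y) r d) := by
  let κ := Y.residueField y
  have h1 : IsPullback ((π r Y).fiberι y) ((π r Y).fiberToSpecResidueField y) (π r Y) (Y.fromSpecResidueField y) :=
    IsPullback.of_hasPullback _ _
  have h2 : IsPullback ((π r Y).fiberι y ≫
      pullback.fst (CohB1.ProjSpace.toSpec r (ULift.{u} ℤ)) (specULiftZIsTerminal.from Y))
      ((π r Y).fiberToSpecResidueField y) (CohB1.ProjSpace.toSpec r (ULift.{u} ℤ))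
      (specULiftZIsTerminal.from (Spec (CommRingCat.of κ))) := by
    rw [specULiftZIsTerminal.hom_ext (specULiftZIsTerminal.from (Spec (CommRingCat.of κ)))
      (Y.fromSpecResidueField y ≫ specULiftZIsTerminal.from Y)]
    exact h1.paste_horiz (IsPullback.of_hasPullback _ _)
  let h3 := KRRLib.PnBC.isPullback_affine r κ
  refine ⟨h3.isoIsPullback _ _ h2, h3.isoIsPullback_hom_snd _ _ h2, fun d => ?_⟩
  have hfst := h3.isoIsPullback_hom_fst _ _ h2
  show PicF.pullCl _ (PicF.pullCl _ (PicF.pullCl _ (PicF.cl (Twist.twistProjSpace r (ULift.{u} ℤ) d)))) = _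
  rw [PicClLib.pullCl_comp, PicClLib.pullCl_comp, Category.assoc, hfst]
  exact cl_eq_iff.2 ⟨KRRLib.PnBC.twistIso (SegreX.z0 κ) d⟩

theorem pullCl_injective_iso {X X' : Scheme.{u}} (e : X ≅ X') : Function.Injective (PicF.pullCl e.hom) :=
  Function.LeftInverse.injective (g := PicF.pullCl e.inv) fun c => by
    rw [PicClLib.pullCl_comp, e.inv_hom_id, PicClLib.pullCl_id]

/-- The class of the restriction to a fibre. -/
abbrev res (y : Y) (c : PicF.Cl (CohB1.ProjSpaceOver r Y)) : PicF.Cl ((π r Y).fiber y) :=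
  PicF.pullCl ((π r Y).fiberι y) c

theorem exists_degree {L : (CohB1.ProjSpaceOver r Y).Modules} (hL : PicF.IsInvertible L) (y : Y) :
    ∃ d : ℤ, res r Y y (PicF.cl L) = res r Y y (PicF.cl (Twist.twistOver r Y d)) := by
  obtain ⟨e, -, he⟩ := exists_fibre r Y y
  obtain ⟨d, ⟨i⟩⟩ := Pn90.exists_iso_O (PicClLib.isInvertible_pullback e.hom
    (PicClLib.isInvertible_pullback ((π r Y).fiberι y) hL))
  exact ⟨d, pullCl_injective_iso e ((cl_eq_iff.2 ⟨i⟩).trans (he d).symm)⟩

theorem degree_unique (hr : 1 ≤ r) (y : Y) {a b : ℤ}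
    (h : res r Y y (PicF.cl (Twist.twistOver r Y a)) = res r Y y (PicF.cl (Twist.twistOver r Y b))) : a = b := by
  obtain ⟨e, -, he⟩ := exists_fibre r Y y
  exact O_injective (Y.residueField y) r hr ((he a).symm.trans ((congrArg (PicF.pullCl e.hom) h).trans (he b)))

theorem res_eq_one (y : Y) {L : (CohB1.ProjSpaceOver 0 Y).Modules} (hL : PicF.IsInvertible L) :
    res 0 Y y (PicF.cl L) = 1 := by
  obtain ⟨e, -, -⟩ := exists_fibre 0 Y y
  refine pullCl_injective_iso e ?_
  rw [pullCl_one]
  exact cl_eq_one_zero _ (PicClLib.isInvertible_pullback e.hom (PicClLib.isInvertible_pullback _ hL))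

theorem bijective_fibre (y : Y) : Function.Bijective ((π r Y).fiberToSpecResidueField y).appTop := by
  obtain ⟨e, he, -⟩ := exists_fibre r Y y
  have h := bijective_appTop (Y.residueField y) r
  rw [← he, Scheme.Hom.comp_appTop] at h
  exact (Function.Bijective.of_comp_iff' (H23.SeesawGlobal.bijective_appTop_iso e) _).1 h

theorem subsingleton_h1 (y : Y) :
    Subsingleton (Coh.HH ((π r Y).fiber y) (Coh.structureModule ((π r Y).fiber y)) 1) := by
  obtain ⟨e, -, -⟩ := exists_fibre r Y y
  have h : Subsingleton (Coh.HH (Pn90.P (Y.residueField y) r) (Coh.structureModule _) (0 + 1)) :=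
    PnCoh.subsingleton_HH_structureModule (ι := Fin (r + 1)) (R := Y.residueField y) (PnCoh.isQCoh_structureModule _) 0
  exact QCoh.subsingleton_HH_of_iso (Scheme.Modules.restrictUnitIso e.inv) 1
    (QCoh.subsingleton_HH_restrict e.inv (Coh.structureModule (Pn90.P (Y.residueField y) r)) 0 (by
      rw [Scheme.Hom.opensRange_of_isIso]
      exact PnCoh.Chow.subsingleton_HU_top _ _ h))

end Groth.Agent.PicfLib.PnPic
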