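import Groth.Agent.S0843
import Groth.Agent.PicfLib.Seesaw.Fibre
import Groth.Agent.KRRLib.PnBC.Twist
import Groth.Agent.PnCoh.Finite.TwistInv

/-! Global functions of projective space over any scheme. -/

set_option autoImplicit false
set_option linter.style.haveILetI false
set_option backward.isDefEq.respectTransparency false
set_option backward.isDefEq.respectTransparency.types false

universe u

open CategoryTheory CategoryTheory.Limits AlgebraicGeometry TopologicalSpace Opposite

noncomputable section

namespace Groth.Agent.PicfLib.PnPic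

open Groth.Agent

theorem bijective_algebraMap_of_equiv {R S : Type*} [CommRing R] [CommRing S] [Algebra R S] (e : S ≃ₗ[R] R) :
    Function.Bijective (algebraMap R S) := by
  let g := e.symm 1
  have hg : ∀ z : S, z = e z • g := fun z => e.injective (by simp [g])
  have h : e 1 * e (g * g) = 1 := by
    have h2 : g = (e 1 * e (g * g)) • g := calc
      g = g * 1 := (mul_one g).symm
      _ = g * (e 1 • g) := congrArg (g * ·) (hg 1)
      _ = e 1 • (g * g) := mul_smul_comm _ _ _
      _ = (e 1 * e (g * g)) • g := (congrArg (e 1 • ·) (hg (g * g))).trans (smul_smul _ _ _)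
    simpa [g] using (congrArg e h2).symm
  refine ⟨fun a b hab => ?_, fun z => ⟨e z * e (g * g), ?_⟩⟩
  · have h3 := congrArg e hab
    rw [Algebra.algebraMap_eq_smul_one, Algebra.algebraMap_eq_smul_one, map_smul, map_smul] at h3
    have h4 := congrArg (· * e (g * g)) h3
    simpa [smul_eq_mul, mul_assoc, h] using h4
  · apply e.injective
    rw [Algebra.algebraMap_eq_smul_one, map_smul, smul_eq_mul, mul_assoc, mul_comm (e (g * g)), h, mul_one]

variable (r : ℕ)

theorem bijective_toSpec (R : Type u) [CommRing R] :
    Function.Bijective (CohB1.ProjSpace.toSpec r R).appTop := by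
  let P := CohB1.ProjSpace r R
  let O0 := Twist.twistProjSpace r R ((0 : ℕ) : ℤ)
  let one : Coh.structureModule P ≅ O0 :=
    @asIso _ _ _ _ _ (PnCoh.Finite.isIso_oneHom (fun i : ULift.{u} (Fin (r + 1)) =>
      (MvPolynomial.X i.down : MvPolynomial (Fin (r + 1)) R))
      (fun i => KRRLib.PnBC.X_mem_one r R i.down) (KRRLib.PnBC.iSup_basicOpen r R))
  obtain ⟨φ⟩ := Groth.Agent.S0843.result R r 0
  let T : R →+* Γ(P, ⊤) := Coh.toGlobal (X := P) (A := R) (CohB1.ProjSpace.toSpec r R)
  letI : Algebra R Γ(P, ⊤) := T.toAlgebra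
  let a : Γ(P, ⊤) ≃+ Γ(O0, ⊤) :=
    { Equiv.ofBijective (one.hom.app ⊤) (ConcreteCategory.bijective_of_isIso _) with
      map_add' := fun x y => map_add (one.hom.app ⊤).hom x y }
  let h : (MvPolynomial.homogeneousSubmodule (Fin (r + 1)) R 0) ≃ₗ[R] R :=
    (LinearEquiv.ofEq _ _ (by
        rw [MvPolynomial.homogeneousSubmodule_zero, Submodule.one_eq_range])).trans
      (LinearEquiv.ofInjective (Algebra.linearMap R (MvPolynomial (Fin (r + 1)) R))
        (FaithfulSMul.algebraMap_injective R _)).symm
  let e : Γ(P, ⊤) ≃ₗ[R] R :=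
    { (a.trans (Seesaw.secEquiv O0).symm).trans (φ.trans h).toAddEquiv with
      map_smul' := fun c x => by
        show (φ.trans h) ((Seesaw.secEquiv O0).symm (a (T c * x))) = c • (φ.trans h) ((Seesaw.secEquiv O0).symm (a x))
        rw [← map_smul (φ.trans h)]
        refine congrArg (φ.trans h) ((Seesaw.secEquiv O0).injective ?_)
        rw [AddEquiv.apply_symm_apply]
        refine Eq.trans ?_ (Seesaw.secEquiv_smul O0 (T c) _).symm
        rw [AddEquiv.apply_symm_apply]
        exact (one.hom.app_smul (U := ⊤) (T c) x : _) }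
  have hb := bijective_algebraMap_of_equiv e
  have h2 := hb.comp (ConcreteCategory.bijective_of_isIso (Scheme.ΓSpecIso (CommRingCat.of R)).hom)
  convert h2 using 1
  funext z
  show _ = (CohB1.ProjSpace.toSpec r R).appTop ((Scheme.ΓSpecIso (CommRingCat.of R)).inv _)
  exact (congrArg _ ((Scheme.ΓSpecIso (CommRingCat.of R)).hom_inv_id_apply z)).symm

end Groth.Agent.PicfLib.PnPic
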