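import Groth.Agent.PicfLib.PnPic.Main
import Groth.Agent.PicfLib.PnPic.Sections
import Groth.Agent.LimitsH94.Approx.Main
import Groth.Agent.LimitsH94.LimLocFree
import Groth.Agent.S4788
import Groth.Agent.QCoh.LocFree

/-! Invertible modules on projective space over an arbitrary base. -/

set_option autoImplicit false
set_option linter.style.haveILetI false
set_option backward.isDefEq.respectTransparency false
set_option backward.isDefEq.respectTransparency.types false

universe u

open CategoryTheory CategoryTheory.Limits AlgebraicGeometry TopologicalSpace Opposite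

noncomputable section

namespace Groth.Agent.PicfLib.PnPic

open Groth.Agent Groth.Agent.H23.PicMul

variable (r : ℕ)

/-- The map of projective spaces over a map of bases. -/
def qmap {Y' Y : Scheme.{u}} (g : Y' ⟶ Y) : CohB1.ProjSpaceOver r Y' ⟶ CohB1.ProjSpaceOver r Y :=
  pullback.lift (pullback.fst (CohB1.ProjSpace.toSpec r (ULift.{u} ℤ)) (specULiftZIsTerminal.from Y'))
    (π r Y' ≫ g) (specULiftZIsTerminal.hom_ext _ _)

theorem isPullback_qmap {Y' Y : Scheme.{u}} (g : Y' ⟶ Y) : IsPullback (qmap r g) (π r Y') (π r Y) g := by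
  refine IsPullback.of_right ?_ (pullback.lift_snd _ _ _) (IsPullback.of_hasPullback _ _)
  rw [show qmap r g ≫ pullback.fst _ _ = _ from pullback.lift_fst _ _ _,
    specULiftZIsTerminal.hom_ext (g ≫ specULiftZIsTerminal.from Y) (specULiftZIsTerminal.from Y')]
  exact IsPullback.of_hasPullback _ _

theorem pullCl_twistOver {Y' Y : Scheme.{u}} (g : Y' ⟶ Y) (d : ℤ) :
    PicF.pullCl (qmap r g) (PicF.cl (Twist.twistOver r Y d)) = PicF.cl (Twist.twistOver r Y' d) := by
  show PicF.pullCl _ (PicF.pullCl _ (PicF.cl (Twist.twistProjSpace r (ULift.{u} ℤ) d))) = _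
  rw [PicClLib.pullCl_comp, show qmap r g ≫ pullback.fst _ _ = _ from pullback.lift_fst _ _ _]
  rfl

theorem bijective_left {A B C : CommRingCat.{u}} (a : A ⟶ B) (b : B ⟶ C) (h : Function.Bijective (a ≫ b))
    (hb : IsIso b) : Function.Bijective a := by
  haveI : IsIso (a ≫ b) := (ConcreteCategory.isIso_iff_bijective _).2 h
  haveI : IsIso a := IsIso.of_isIso_comp_right a b
  exact ConcreteCategory.bijective_of_isIso a

section Limit

variable {I : Type u} [SmallCategory I] (D : I ⥤ Scheme.{u})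

theorem qmap_id (Y : Scheme.{u}) : qmap r (𝟙 Y) = 𝟙 _ := by
  apply pullback.hom_ext <;> simp [qmap, π, CohB1.ProjSpaceOver.toBase] <;> exact (Category.id_comp _).symm

theorem qmap_comp {Y'' Y' Y : Scheme.{u}} (g' : Y'' ⟶ Y') (g : Y' ⟶ Y) :
    qmap r (g' ≫ g) = qmap r g' ≫ qmap r g := by
  apply pullback.hom_ext <;> simp [qmap, π, CohB1.ProjSpaceOver.toBase]

/-- The projective spaces over a diagram. -/
def pnDiag : I ⥤ Scheme.{u} where
  obj i := CohB1.ProjSpaceOver r (D.obj i)
  map a := qmap r (D.map a)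
  map_id i := by rw [D.map_id, qmap_id]
  map_comp a b := by rw [D.map_comp, qmap_comp]

/-- The cone of projective spaces. -/
def pnCone (c : Cone D) : Cone (pnDiag r D) where
  pt := CohB1.ProjSpaceOver r c.pt
  π :=
    { app := fun i => qmap r (c.π.app i)
      naturality := fun i j a => by
        show 𝟙 _ ≫ qmap r (c.π.app j) = qmap r (c.π.app i) ≫ qmap r (D.map a)
        rw [Category.id_comp, ← qmap_comp, c.w a] }

/-- Projective space commutes with limits. -/
def isLimit_pnCone [IsCofiltered I] {c : Cone D} (hc : IsLimit c) : IsLimit (pnCone r D c) :=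
  haveI : IsConnected I := IsCofiltered.isConnected I
  isLimitOfIsPullbackOfIsConnected (F := pnDiag r D) (G := D)
    { app := fun i => π r (D.obj i)
      naturality := fun i j a => (isPullback_qmap r (D.map a)).w }
    (pnCone r D c) c
    { hom := π r c.pt
      w := fun i => (isPullback_qmap r (c.π.app i)).w.symm }
    (fun i => isPullback_qmap r (c.π.app i)) hc

end Limit

theorem isFinLocFreeOfRank_one {X : Scheme.{u}} {M : X.Modules} (h : PicF.IsInvertible M) :
    FlatMod.IsFinLocFreeOfRank 1 M := fun x =>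
  let ⟨U, hx, ⟨e⟩⟩ := h x
  ⟨U, hx, ⟨e ≪≫ (coproductUniqueIso fun _ : Fin 1 => Coh.structureModule U.toScheme).symm⟩⟩

/-- An invertible module over an affine base comes from a Noetherian base. -/
theorem exists_noetherian_model (V : Scheme.{u}) [CompactSpace V] [QuasiSeparatedSpace V]
    {L : (CohB1.ProjSpaceOver r V).Modules} (hL : PicF.IsInvertible L) :
    ∃ (V₀ : Scheme.{u}) (_ : IsLocallyNoetherian V₀) (g : V ⟶ V₀) (L₀ : (CohB1.ProjSpaceOver r V₀).Modules),
      PicF.IsInvertible L₀ ∧ PicF.pullCl (qmap r g) (PicF.cl L₀) = PicF.cl L := by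
  obtain ⟨A⟩ := LimitsH94.Approx.exists_appr V
  haveI : ∀ (i j : A.Iᵒᵖ) (a : i ⟶ j), IsAffineHom ((pnDiag r A.D).map a) := fun i j a => by
    haveI := A.aff i j a
    exact MorphismProperty.of_isPullback (isPullback_qmap r (A.D.map a)).flip (inferInstanceAs (IsAffineHom (A.D.map a)))
  haveI : ∀ i, CompactSpace ((pnDiag r A.D).obj i) := fun i => by
    haveI : IsProper (π r (A.D.obj i)) := VarNef31.isProper_toBase r (A.D.obj i)
    exact QuasiCompact.compactSpace_of_compactSpace (π r (A.D.obj i))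
  haveI : ∀ i, QuasiSeparatedSpace ((pnDiag r A.D).obj i) := fun i => by
    haveI : IsProper (π r (A.D.obj i)) := VarNef31.isProper_toBase r (A.D.obj i)
    exact quasiSeparatedSpace_of_quasiSeparated (π r (A.D.obj i))
  let c : Cone A.D := Cone.mk V A.π
  let C := pnCone r A.D c
  have hC : IsLimit C := isLimit_pnCone r A.D A.lim
  have hLf := H23.PullPush.isFinLocFree_of_isInvertible hL
  haveI : Coh.IsQCoh (X := C.pt) L := QCoh.isQCoh_of_isFinLocFree hLf
  obtain ⟨i, -, Fi, hFq, hFp, ⟨e⟩⟩ := Groth.Agent.S4788.result (pnDiag r A.D) C hC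
    (op (Classical.arbitrary A.I)) L (QCoh.isFP_of_isFinLocFree hLf)
  obtain ⟨j, φ, hj⟩ := LimitsH94.LM.exists_stage_isFinLocFreeOfRank (D := pnDiag r A.D) (c := C) (i := i) hC hFq hFp 1
    (isFinLocFreeOfRank_one (isInvertible_of_iso e.symm hL))
  refine ⟨A.D.obj j, (A.ftz j).isLocallyNoetherian, c.π.app j,
    (Scheme.Modules.pullback ((pnDiag r A.D).map φ)).obj Fi, fun x => ?_, ?_⟩
  rotate_left
  · show PicF.pullCl (C.π.app j) (PicF.pullCl ((pnDiag r A.D).map φ) (PicF.cl Fi)) = _
    rw [PicClLib.pullCl_comp, C.w φ]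
    exact cl_eq_iff.2 ⟨e⟩
  · obtain ⟨U, hx, ⟨ε⟩⟩ := hj x
    exact ⟨U, hx, ⟨ε ≪≫ coproductUniqueIso _⟩⟩

theorem loc (Y : Scheme.{u}) {L : (CohB1.ProjSpaceOver r Y).Modules} (hL : PicF.IsInvertible L) : Loc r Y L := by
  intro y
  obtain ⟨_, ⟨(V : Y.Opens), hV, rfl⟩, hy, -⟩ := Y.isBasis_affineOpens.exists_subset_of_mem_open (Set.mem_univ y) isOpen_univ
  haveI : IsAffine (V : Scheme.{u}) := hV
  let q := qmap r V.ι
  have sq := isPullback_qmap r V.ι
  haveI : IsOpenImmersion q := MorphismProperty.of_isPullback sq.flip inferInstance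
  obtain ⟨V₀, _, g, L₀, hL₀, hcl⟩ := exists_noetherian_model r (V : Scheme.{u})
    (PicClLib.isInvertible_pullback q hL)
  obtain ⟨U₀, hy₀, n, M₀, -, he, s, hs⟩ := loc_of_noetherian r V₀ hL₀ (g ⟨y, hy⟩)
  obtain ⟨D, hD, h1⟩ := exists_inverse_twist r Y n
  let M := CohB1.tensorMod L D
  refine ⟨V.ι ''ᵁ (g ⁻¹ᵁ U₀), ⟨⟨y, hy⟩, hy₀, rfl⟩, n, M, isInvertible_tensor hL hD,
    by rw [cl_tensor, mul_assoc, mul_comm (PicF.cl D), h1, mul_one], ?_⟩
  let W : (CohB1.ProjSpaceOver r (V : Scheme.{u})).Opens := qmap r g ⁻¹ᵁ ((π r V₀) ⁻¹ᵁ U₀)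
  obtain ⟨e⟩ : Nonempty ((Scheme.Modules.pullback (qmap r g)).obj M₀ ≅ (Scheme.Modules.pullback q).obj M) := by
    refine cl_eq_iff.1 ((isUnit_cl (isInvertible_twistOver r (V : Scheme.{u}) n)).mul_left_injective ?_)
    show PicF.pullCl (qmap r g) (PicF.cl M₀) * _ = PicF.pullCl q (PicF.cl M) * _
    conv_lhs => rw [← pullCl_twistOver r g n, ← pullCl_mul, he, hcl]
    rw [← pullCl_twistOver r V.ι n, ← pullCl_mul, cl_tensor, mul_assoc, mul_comm (PicF.cl D), h1, mul_one]
    rfl
  have hf : InvX.IsFrame (InvX.pullElt (qmap r g) s) := InvX.isFrame_pullElt _ hs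
  obtain ⟨φ⟩ := InvX.nonempty_iso_of_isFrame (hf.map_iso e)
  obtain ⟨t, ht⟩ := H23.SeesawGlobal.exists_frame_of_triv (L := M) (W.ι ≫ q) (by
    rw [← H23.TrivBasic.triv_comp_iff]
    exact H23.TrivBasic.Triv.of_iso ((Scheme.Modules.restrictFunctorIsoPullback W.ι).app _) ⟨φ⟩)
  refine ⟨_, ht.res ?_⟩
  intro z hz
  obtain ⟨v, hv, hvz⟩ := hz
  obtain ⟨w, hwz, hwv⟩ := Scheme.Pullback.exists_preimage_pullback (f := π r Y) (g := V.ι) z v hvz.symm
  refine ⟨⟨sq.isoPullback.inv w, ?_⟩, ?_⟩
  · show π r V₀ (qmap r g (sq.isoPullback.inv w)) ∈ U₀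
    rw [← Scheme.Hom.comp_apply, (isPullback_qmap r g).w, ← Scheme.Hom.comp_apply, sq.isoPullback_inv_snd_assoc,
      Scheme.Hom.comp_apply, hwv]
    exact hv
  · show q (sq.isoPullback.inv w) = z
    rw [← Scheme.Hom.comp_apply, sq.isoPullback_inv_fst, hwz]

/-- Functions on projective space are functions on the base. -/
theorem bijective_app (Y : Scheme.{u}) (W : Y.Opens) : Function.Bijective ((π r Y).app W) := by
  let f := π r Y
  let u : Coh.structureModule Y ⟶ (Scheme.Modules.pushforward f).obj (Coh.structureModule _) :=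
    SheafOfModules.unitToPushforwardObjUnit f.toRingCatSheafHom
  haveI : IsIso u := Groth.Agent.QCoh.isIso_of_isBasis u Y.isBasis_affineOpens fun V hV => by
    have hV' : IsAffineOpen V := hV
    have h1 : IsPullback (pullback.fst f hV'.fromSpec) (pullback.snd f hV'.fromSpec) f hV'.fromSpec :=
      IsPullback.of_hasPullback _ _
    have h2 : IsPullback (pullback.fst f hV'.fromSpec ≫
        pullback.fst (CohB1.ProjSpace.toSpec r (ULift.{u} ℤ)) (specULiftZIsTerminal.from Y))
        (pullback.snd f hV'.fromSpec) (CohB1.ProjSpace.toSpec r (ULift.{u} ℤ))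
        (specULiftZIsTerminal.from (Spec (CommRingCat.of Γ(Y, V)))) := by
      rw [specULiftZIsTerminal.hom_ext (specULiftZIsTerminal.from (Spec (CommRingCat.of Γ(Y, V))))
        (hV'.fromSpec ≫ specULiftZIsTerminal.from Y)]
      exact h1.paste_horiz (IsPullback.of_hasPullback _ _)
    let h3 := KRRLib.PnBC.isPullback_affine r (Γ(Y, V) : Type u)
    let a := h3.isoIsPullback _ _ h2
    let b := (AmpleVan.isPullback_overSpec' f hV').isoIsPullback _ _ h1
    have hb : Function.Bijective (pullback.snd f hV'.fromSpec).appTop := by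
      have h := bijective_toSpec r (Γ(Y, V) : Type u)
      rw [← h3.isoIsPullback_hom_snd _ _ h2, Scheme.Hom.comp_appTop] at h
      exact (Function.Bijective.of_comp_iff' (H23.SeesawGlobal.bijective_appTop_iso a) _).1 h
    have hc : Function.Bijective (QCoh.overSpec f hV').appTop := by
      rw [← (AmpleVan.isPullback_overSpec' f hV').isoIsPullback_hom_snd _ _ h1, Scheme.Hom.comp_appTop]
      exact (H23.SeesawGlobal.bijective_appTop_iso b).comp hb
    have hd : Function.Bijective (f ∣_ V).appTop := by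
      have hc' : Function.Bijective ((f ∣_ V) ≫ hV'.isoSpec.hom).appTop := hc
      rw [Scheme.Hom.comp_appTop] at hc'
      exact (Function.Bijective.of_comp_iff _ (H23.SeesawGlobal.bijective_appTop_iso hV'.isoSpec)).1 hc'
    rw [morphismRestrict_appTop] at hd
    have he : Function.Bijective (f.app (V.ι ''ᵁ ⊤)) := bijective_left _ _ hd inferInstance
    rwa [Scheme.Opens.ι_image_top] at he
  have h : IsIso (u.app W) := Scheme.Modules.Hom.isIso_iff_isIso_app.1 inferInstance W
  exact ((ConcreteCategory.isIso_iff_bijective (u.app W)).1 h :)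

end Groth.Agent.PicfLib.PnPic
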