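import Groth.Agent.PicfLib.PnPic.Fibre
import Groth.Agent.AmpleVan.SpreadFibre
import Groth.Agent.KRRLib.PnBC.FlatPn
import Groth.Agent.VarNef31.ProperBase
import Groth.Agent.S16759
import Groth.Agent.S3581

/-! Invertible modules on projective space over a Noetherian base. -/

set_option autoImplicit false
set_option linter.style.haveILetI false
set_option backward.isDefEq.respectTransparency false
set_option backward.isDefEq.respectTransparency.types false

universe u

open CategoryTheory CategoryTheory.Limits AlgebraicGeometry TopologicalSpace Opposite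

noncomputable section

namespace Groth.Agent.PicfLib.PnPic

open Groth.Agent Groth.Agent.H23.PicMul

theorem isInvertible_twistOver (r : ℕ) (Y : Scheme.{u}) (d : ℤ) : PicF.IsInvertible (Twist.twistOver r Y d) := by
  refine PicClLib.isInvertible_pullback _ (InvX.isInvertible_of_frames fun x => ?_)
  obtain ⟨i, hi⟩ := Opens.mem_iSup.1 ((KRRLib.PnBC.iSup_basicOpen r (ULift.{u} ℤ)).ge (trivial : x ∈ (⊤ : Opens _)))
  exact ⟨_, hi, _, PnCoh.Chow.isFrame_twF (KRRLib.PnBC.X_mem_one r (ULift.{u} ℤ) i.down) d⟩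

theorem flat_toBase (r : ℕ) (Y : Scheme.{u}) : Flat (CohB1.ProjSpaceOver.toBase r Y) :=
  inferInstanceAs (Flat (pullback.snd (CohB1.ProjSpace.toSpec r (ULift.{u} ℤ)) (specULiftZIsTerminal.from Y)))

section

variable {X Y : Scheme.{u}} (f : X ⟶ Y)

/-- An invertible module trivial on a fibre without `H¹` has frames near it. -/
theorem exists_frame_of_fibre [IsProper f] [Flat f] [IsLocallyNoetherian Y] {M : X.Modules}
    (hM : PicF.IsInvertible M) (y : Y)
    (h1 : Subsingleton (Coh.HH (f.fiber y) (Coh.structureModule (f.fiber y)) 1))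
    (h : PicF.pullCl (f.fiberι y) (PicF.cl M) = 1) :
    ∃ U : Y.Opens, y ∈ U ∧ ∃ s : Γ(M, f ⁻¹ᵁ U), InvX.IsFrame s := by
  obtain ⟨eM⟩ : Nonempty (CohIII.fiberMod f M y ≅ Coh.structureModule (f.fiber y)) := cl_eq_iff.1 h
  obtain ⟨eO⟩ := PicClLib.nonempty_pullback_structureModule (f.fiberι y)
  let cO : CohIII.fiberMod f (Coh.structureModule X) y ≅ Coh.structureModule (f.fiber y) := eO
  have c : (SheafHomX.hom (CohIII.fiberMod f (Coh.structureModule X) y)).obj (CohIII.fiberMod f M y) ≅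
      Coh.structureModule (f.fiber y) :=
    { hom := (SheafHomX.homMap cO.inv).app _
      inv := (SheafHomX.homMap cO.hom).app _
      hom_inv_id := by
        rw [← SheafHomX.homMap_comp, Iso.hom_inv_id, SheafHomX.homMap_id]
      inv_hom_id := by
        rw [← SheafHomX.homMap_comp, Iso.inv_hom_id, SheafHomX.homMap_id] } ≪≫
      (SheafHomX.unitIso _).app _ ≪≫ eM
  obtain ⟨U, hy, ⟨φ⟩⟩ := AmpleVan.exists_iso_near_fibre f y (Coh.structureModule X) M
    (H23.PullPush.isFinLocFree_of_isInvertible (InvX.isInvertible_of_frames fun _ =>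
      ⟨⊤, trivial, _, InvX.isFrame_one ⊤⟩))
    (H23.PullPush.isFinLocFree_of_isInvertible hM) (cO ≪≫ eM.symm)
    (QCoh.subsingleton_HH_of_iso c.symm 1 h1)
  obtain ⟨s, hs⟩ := H23.SeesawGlobal.exists_frame_of_triv (L := M) (f ⁻¹ᵁ U).ι
    (H23.TrivBasic.Triv.of_iso ((Scheme.Modules.restrictFunctorIsoPullback (f ⁻¹ᵁ U).ι).app M)
      ⟨φ.symm ≪≫ Scheme.Modules.restrictUnitIso _⟩)
  exact ⟨U, hy, _, hs.res (Scheme.Opens.opensRange_ι _).ge⟩

theorem pullCl_eq_one_of_frame {M : X.Modules} {y : Y} {U : Y.Opens} (hy : y ∈ U) {s : Γ(M, f ⁻¹ᵁ U)}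
    (hs : InvX.IsFrame s) : PicF.pullCl (f.fiberι y) (PicF.cl M) = 1 :=
  cl_eq_iff.2 (H23.TrivBasic.triv_of_frame (Seesaw.triv_of_frame_fibre f M hy hs))

theorem pullCl_fiberι_pullback {L₀ : Y.Modules} (hL₀ : PicF.IsInvertible L₀) (y : Y) :
    PicF.pullCl (f.fiberι y) (PicF.cl ((Scheme.Modules.pullback f).obj L₀)) = 1 := by
  obtain ⟨V, hy, t, ht⟩ := Seesaw.exists_frame_of_pullback f _ L₀ hL₀ (Iso.refl _) y
  exact pullCl_eq_one_of_frame f hy ht

end

variable (r : ℕ) (Y : Scheme.{u})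

/-- Locally on the base a module is a twist of a module with frames over the base. -/
def Loc (L : (CohB1.ProjSpaceOver r Y).Modules) : Prop :=
  ∀ y : Y, ∃ (U : Y.Opens) (_ : y ∈ U) (n : ℤ) (M : (CohB1.ProjSpaceOver r Y).Modules), PicF.IsInvertible M ∧
    PicF.cl M * PicF.cl (Twist.twistOver r Y n) = PicF.cl L ∧ ∃ s : Γ(M, (π r Y) ⁻¹ᵁ U), InvX.IsFrame s

theorem exists_inverse_twist (n : ℤ) : ∃ D : (CohB1.ProjSpaceOver r Y).Modules, PicF.IsInvertible D ∧
    PicF.cl (Twist.twistOver r Y n) * PicF.cl D = 1 := by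
  obtain ⟨D, hD, ⟨eD⟩⟩ := H23.PicInv.exists_inverse (isInvertible_twistOver r Y n)
  exact ⟨D, hD, by rw [← cl_tensor]; exact cl_eq_iff.2 ⟨eD⟩⟩

theorem loc_of_noetherian [IsLocallyNoetherian Y] {L : (CohB1.ProjSpaceOver r Y).Modules}
    (hL : PicF.IsInvertible L) : Loc r Y L := by
  haveI : IsProper (π r Y) := VarNef31.isProper_toBase r Y
  haveI := flat_toBase r Y
  intro y
  obtain ⟨n, hn⟩ := exists_degree r Y hL y
  obtain ⟨D, hD, h1⟩ := exists_inverse_twist r Y n
  obtain ⟨U, hy, hs⟩ := exists_frame_of_fibre (π r Y) (isInvertible_tensor hL hD) y (subsingleton_h1 r Y y) (by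
    rw [cl_tensor, pullCl_mul, show PicF.pullCl _ (PicF.cl L) = _ from hn, res, ← pullCl_mul, h1, pullCl_one])
  exact ⟨U, hy, n, _, isInvertible_tensor hL hD,
    by rw [cl_tensor, mul_assoc, mul_comm (PicF.cl D), h1, mul_one], hs⟩

theorem res_eq_of_frame {L M : (CohB1.ProjSpaceOver r Y).Modules} {n : ℤ} {U : Y.Opens}
    (he : PicF.cl M * PicF.cl (Twist.twistOver r Y n) = PicF.cl L) {s : Γ(M, (π r Y) ⁻¹ᵁ U)} (hs : InvX.IsFrame s)
    {z : Y} (hz : z ∈ U) : res r Y z (PicF.cl L) = res r Y z (PicF.cl (Twist.twistOver r Y n)) := by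
  rw [← he, res, pullCl_mul, pullCl_eq_one_of_frame (π r Y) hz hs, one_mul]

/-- The degree on the fibres is locally constant. -/
theorem exists_global_degree [ConnectedSpace Y] {L : (CohB1.ProjSpaceOver r Y).Modules} (hL : PicF.IsInvertible L)
    (hloc : Loc r Y L) :
    ∃ d : ℤ, ∀ y : Y, res r Y y (PicF.cl L) = res r Y y (PicF.cl (Twist.twistOver r Y d)) := by
  rcases Nat.eq_zero_or_pos r with rfl | hr
  · exact ⟨0, fun y => (res_eq_one Y y hL).trans (res_eq_one Y y (isInvertible_twistOver 0 Y 0)).symm⟩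
  · choose deg hdeg using exists_degree r Y hL
    have hc : IsLocallyConstant deg := (IsLocallyConstant.iff_exists_open deg).2 fun y => by
      obtain ⟨U, hy, n, M, -, he, s, hs⟩ := hloc y
      have key : ∀ z ∈ U, deg z = n := fun z hz =>
        degree_unique r Y hr z ((hdeg z).symm.trans (res_eq_of_frame r Y he hs hz))
      exact ⟨U, U.2, hy, fun z hz => (key z hz).trans (key y hy).symm⟩
    obtain ⟨y₀⟩ := (inferInstance : Nonempty Y)
    exact ⟨deg y₀, fun y => by rw [hdeg y, hc.apply_eq_of_preconnectedSpace y y₀]⟩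

/-- Over a point projective space is the base, so every invertible module has frames over it. -/
theorem exists_frame_zero {Y : Scheme.{u}}
    {M : (CohB1.ProjSpaceOver 0 Y).Modules} (hM : PicF.IsInvertible M) (y : Y) :
    ∃ U : Y.Opens, y ∈ U ∧ ∃ s : Γ(M, (π 0 Y) ⁻¹ᵁ U), InvX.IsFrame s := by
  haveI : IsIso (CohB1.ProjSpace.toSpec 0 (ULift.{u} ℤ)) := Groth.Agent.S3581.result _
  haveI : IsIso (π 0 Y) := inferInstanceAs (IsIso (pullback.snd _ _))
  obtain ⟨V, hV, ε, hε⟩ := InvX.exists_frame hM (inv (π 0 Y) y)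
  refine ⟨inv (π 0 Y) ⁻¹ᵁ V, hV, _, hε.res ?_⟩
  intro z hz
  have : inv (π 0 Y) (π 0 Y z) = z := by rw [← Scheme.Hom.comp_apply, IsIso.hom_inv_id]; rfl
  exact this ▸ hz

/-- The twist of the global degree has frames over the base. -/
theorem exists_frames (hbij : ∀ W : Y.Opens, Function.Bijective ((π r Y).app W)) [ConnectedSpace Y]
    {L : (CohB1.ProjSpaceOver r Y).Modules} (hL : PicF.IsInvertible L) (hloc : Loc r Y L) :
    ∃ (L' : Y.Modules) (n : ℤ), PicF.IsInvertible L' ∧ Nonempty (L ≅ CohB1.tensorMod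
      ((Scheme.Modules.pullback (CohB1.ProjSpaceOver.toBase r Y)).obj L') (Twist.twistOver r Y n)) := by
  haveI : IsProper (π r Y) := VarNef31.isProper_toBase r Y
  obtain ⟨d, hd⟩ := exists_global_degree r Y hL hloc
  obtain ⟨D, hD, h1⟩ := exists_inverse_twist r Y d
  obtain ⟨hL', hiso⟩ := Groth.Agent.S16759.of_local (π r Y) hbij (CohB1.tensorMod L D) fun y => by
    obtain ⟨U, hy, n, M, hM, he, s, hs⟩ := hloc y
    rcases Nat.eq_zero_or_pos r with rfl | hr
    · exact exists_frame_zero (isInvertible_tensor hL hD) y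
    · have hn : n = d := degree_unique r Y hr y ((res_eq_of_frame r Y he hs hy).symm.trans (hd y))
      subst hn
      obtain ⟨e⟩ : Nonempty (M ≅ CohB1.tensorMod L D) := cl_eq_iff.1 (by
        rw [cl_tensor, ← he, mul_assoc, h1, mul_one])
      exact ⟨U, hy, _, hs.map_iso e⟩
  refine ⟨_, d, hL', cl_eq_iff.1 ?_⟩
  rw [cl_tensor, show PicF.cl ((Scheme.Modules.pullback (π r Y)).obj _) = PicF.cl (CohB1.tensorMod L D) from
    cl_eq_iff.2 ⟨@asIso _ _ _ _ _ hiso⟩, cl_tensor, mul_assoc, mul_comm (PicF.cl D), h1, mul_one]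

/-- Uniqueness of the decomposition. -/
theorem decomp_unique (hbij : ∀ W : Y.Opens, Function.Bijective ((π r Y).app W)) [Nonempty Y] (hr : 1 ≤ r)
    {L₁ L₂ : Y.Modules} {n₁ n₂ : ℤ}
    (hL₁ : PicF.IsInvertible L₁) (hL₂ : PicF.IsInvertible L₂)
    (h : Nonempty (CohB1.tensorMod ((Scheme.Modules.pullback (CohB1.ProjSpaceOver.toBase r Y)).obj L₁) (Twist.twistOver r Y n₁) ≅
      CohB1.tensorMod ((Scheme.Modules.pullback (CohB1.ProjSpaceOver.toBase r Y)).obj L₂) (Twist.twistOver r Y n₂))) :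
    n₁ = n₂ ∧ Nonempty (L₁ ≅ L₂) := by
  have h' := cl_eq_iff.2 h
  rw [cl_tensor, cl_tensor] at h'
  obtain ⟨y⟩ := (inferInstance : Nonempty Y)
  have hn : n₁ = n₂ := by
    refine degree_unique r Y hr y ?_
    have h2 := congrArg (PicF.pullCl ((π r Y).fiberι y)) h'
    rwa [pullCl_mul, pullCl_mul, pullCl_fiberι_pullback (π r Y) hL₁ y, pullCl_fiberι_pullback (π r Y) hL₂ y,
      one_mul, one_mul] at h2
  subst hn
  refine ⟨rfl, ?_⟩
  obtain ⟨e⟩ := cl_eq_iff.1 ((isUnit_cl (isInvertible_twistOver r Y n₁)).mul_left_injective h')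
  haveI := H23.PullPush.isIso_unit_of_isFinLocFree (π r Y) hbij L₁ (H23.PullPush.isFinLocFree_of_isInvertible hL₁)
  haveI := H23.PullPush.isIso_unit_of_isFinLocFree (π r Y) hbij L₂ (H23.PullPush.isFinLocFree_of_isInvertible hL₂)
  exact ⟨asIso ((Scheme.Modules.pullbackPushforwardAdjunction (π r Y)).unit.app L₁) ≪≫
    (Scheme.Modules.pushforward (π r Y)).mapIso e ≪≫
    (asIso ((Scheme.Modules.pullbackPushforwardAdjunction (π r Y)).unit.app L₂)).symm⟩

end Groth.Agent.PicfLib.PnPic
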